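import Cfsg.Agent.H274.EP.Key
import Cfsg.Agent.H996.Deg.RgdEdge
import Cfsg.Agent.FastGrp
import Cfsg.Agent.Prune
set_option linter.all false
prune_inst 0x7f00000000000000000000000000000000000000000000000000000000000000000000000000000000000000000000000000000000000000000000000000000000000000000000000000000000000000003fffffffffffffffffffffffffffbeffbdfbfeffff
open scoped Cfsg.Agent.FastGrp

-- part: H152/PS/Rep
section
/-!
# Principal series representations: multiplicities of linear characters of `U` (helper152)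

The analogues of H969/TT/{TopAbs, TopRGD, Levi} for a representation instead of a permutation module.
-/

set_option autoImplicit false
set_option linter.unusedSectionVars false

namespace Cfsg.Agent.H152.PS

open MulAction Cfsg Cfsg.Agent.Characters.Core Cfsg.Agent.H969.TT.Count Cfsg.Agent.H969.TT.TopAbs
open scoped ComplexConjugate

section A

variable {Y : Type*} [Group Y] [Finite Y] {E : Type*} [AddCommGroup E] [Module ℂ E]

end A

/-! ### averages -/

section avg

variable {Y : Type*} [Group Y]

/-- the average over the subgroup `P` -/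
noncomputable def avg (P : Subgroup Y) (f : Y → ℂ) : ℂ := (Nat.card P : ℂ)⁻¹ * ∑ᶠ x : P, f x

theorem avg_eq (P : Subgroup Y) [Fintype P] (f : Y → ℂ) : avg P f = (Nat.card P : ℂ)⁻¹ * ∑ x : P, f x := by
  rw [avg, finsum_eq_sum_of_fintype]

/-- `⟨χ, 1_P^Y⟩` -/
theorem classInner_fpc' [Fintype Y] (P : Subgroup Y) {χ : Y → ℂ} (hχ : IsClassFunction Y χ) :
    classInner χ (fixedPointCharacter P) = avg P χ := by
  classical
  have : Fintype P := Fintype.ofFinite _
  have h1 := frob P hχ
  rw [classInner_def, avg_eq]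
  have h2 : ∀ y : Y, χ y * (starRingEnd ℂ) (fixedPointCharacter P y) =
      χ y * (Nat.card (MulAction.fixedBy (Y ⧸ P) y) : ℂ) := by
    intro y
    rw [fixedPointCharacter, Complex.conj_natCast]
  rw [Finset.sum_congr rfl fun y _ => h2 y, h1]
  have h5 : (Nat.card Y : ℂ) = (P.index : ℂ) * (Nat.card P : ℂ) := by
    rw [← P.card_mul_index]; push_cast; ring
  have h6 : (P.index : ℂ) ≠ 0 := by exact_mod_cast Subgroup.index_ne_zero_of_finite
  rw [h5, mul_inv, mul_mul_mul_comm, inv_mul_cancel₀ h6, one_mul]

end avg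

/-! ### fixed vectors of a normalised subgroup -/

section fixV

variable {Y : Type*} [Group Y] {E : Type*} [AddCommGroup E] [Module ℂ E]

/-- the `V`-fixed vectors -/
def fixV (V : Subgroup Y) (ρ : Representation ℂ Y E) : Submodule ℂ E where
  carrier := {w | ∀ v ∈ V, ρ v w = w}
  add_mem' := fun {a b} ha hb v hv => by rw [map_add, ha v hv, hb v hv]
  zero_mem' := fun v _ => map_zero _
  smul_mem' := fun c x hx v hv => by rw [map_smul, hx v hv]

variable {V K : Subgroup Y} (hn : ∀ k ∈ K, ∀ v ∈ V, k * v * k⁻¹ ∈ V) (ρ : Representation ℂ Y E)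

include hn in
theorem fixV_inv (k : K) (w : E) (hw : w ∈ fixV V ρ) : ρ (k : Y) w ∈ fixV V ρ := by
  intro v hv
  have h1 := hw _ (hn (k : Y)⁻¹ (inv_mem k.2) v hv)
  rw [inv_inv] at h1
  have h2 : (v : Y) * k = k * ((k : Y)⁻¹ * v * k) := by group
  rw [← Module.End.mul_apply, ← map_mul, h2, map_mul, Module.End.mul_apply, h1]

/-- the representation of `K` on the `V`-fixed vectors -/
def repV : Representation ℂ K (fixV V ρ) where
  toFun k := (ρ (k : Y)).restrict (fixV_inv hn ρ k)
  map_one' := by
    ext w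
    show ρ ((1 : K) : Y) w.1 = w.1
    rw [Subgroup.coe_one, map_one]; rfl
  map_mul' k l := by
    ext w
    show ρ ((k * l : K) : Y) w.1 = ρ (k : Y) (ρ (l : Y) w.1)
    rw [Subgroup.coe_mul, map_mul]; rfl

@[simp] theorem coe_repV (k : K) (w : fixV V ρ) : ((repV hn ρ k w : fixV V ρ) : E) = ρ (k : Y) w := rfl

end fixV

end Cfsg.Agent.H152.PS
end

-- part: H152/PS/Deg
section
/-!
# Principal series characters have degree divisible by `p` (helper152)

A nontrivial irreducible character with `B`-fixed vectors has degree divisible by `p` (from helper996's `dvd_degree`).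
-/

set_option autoImplicit false
set_option linter.unusedSectionVars false

namespace Cfsg.Agent.H152.PS

open CoxeterSystem Cfsg.Agent.ChevalleyStructure.CoxeterGeom Cfsg.Agent.Tits.Roots Cfsg.Agent.Tits.Core
  Cfsg.Agent.Tits.Exchange Cfsg.Agent.Nodes.Reps Cfsg.Agent.Nodes.BNOf Cfsg.Agent.Nodes.StabComb
  Cfsg.Agent.Nodes.Bruhat Cfsg.Agent.Nodes.LeviDec Cfsg.Agent.Omega.EH3.Kf.Lev
open Cfsg.Agent.Characters.Core

variable {I W Y : Type*} [Fintype I] [DecidableEq I] [Group W] [Group Y] {M : CoxeterMatrix I}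
  {cs : CoxeterSystem M W} {A : I → I → ℤ} {h : IsCartan M A} {p : ℕ} {T : Subgroup Y} {n : I → Y}
  {X : (I → ℤ) → Subgroup Y}

/-- **A nontrivial irreducible character of `Y` with `B`-fixed vectors has degree divisible by `p`.** -/
theorem dvd_degree [Finite W] [Finite Y] [Fact p.Prime] (R : RGD cs h p T n X) (hG : GG cs h T X = ⊤)
    (hC : CommGen cs h X) [Fintype (RGD.B cs h T X)] {χ : Y → ℂ} (hχ : Cfsg.IsIrrCharacter Y χ) (h1 : χ ≠ fun _ => 1)
    (hB : ∑ b : RGD.B cs h T X, χ b ≠ 0) : p ∣ Cfsg.charDegree χ := by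
  classical
  have : Fintype Y := Fintype.ofFinite Y
  obtain ⟨d, hd0, hd⟩ := isIrr_apply_one hχ
  have hin : classInner (fixedPointCharacter (RGD.B cs h T X)) χ ≠ 0 := by
    intro h2
    have h3 : classInner χ (fixedPointCharacter (RGD.B cs h T X)) = 0 := by
      rw [← classInner_conj_symm, h2, map_zero]
    rw [classInner_fpc' _ (isIrr_isClassFunction hχ), avg_eq, mul_eq_zero] at h3
    exact hB (h3.resolve_left (inv_ne_zero card_ne_zero_complex))
  have h2 := Cfsg.Agent.H996.Deg.dvd_degree R (Fact.out : p.Prime) hG hC hχ h1 hin hd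
  rwa [Cfsg.Agent.H670.PSing.charDegree_eq_of hd]

end Cfsg.Agent.H152.PS
end

private theorem dce_23df1f5ca17b : _root_.True := by
  try have : _root_.True := by simp only [_root_.Cfsg.Agent.H152.PS.avg.eq_1]
  exact _root_.True.intro
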